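import Cfsg.Prelude.Def_DegreeGraph
import Mathlib.LinearAlgebra.Matrix.ProjectiveSpecialLinearGroup
import Mathlib.FieldTheory.Finite.Basic
import Mathlib.Combinatorics.SimpleGraph.Connectivity.Connected
set_option linter.all false

/-!
# Hub H5: the facts on the characters of the finite simple groups used by the applications

Every fact is a proposition quantified over all non-abelian finite simple groups `S`; the
applications (reductions) take them as hypotheses, the rows prove them family by family.

* `FactIM`   : Itô-Michler: every prime divisor of `|S|` divides the degree of some irreducible character.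
* `FactConn` : `S` not `PSL(2,F)`: the degree graph is connected.
* `FactInd`  : `S` not `PSL(2,F)`: among any three primes dividing `|S|` two are adjacent.
* `FactTri`  : `S` not `PSL(2,F)`: three primes, pairwise adjacent.
* `FactExt`  : some irreducible character, not principal, extends to `Aut S`.
* `FactCop`  : two nonlinear irreducible characters of coprime degrees which extend to `Aut S`,
  or one of degree a prime power which extends to `Aut S`.
* `FactEven` : `FactIM` for `p = 2`.
-/

set_option autoImplicit false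

namespace Cfsg.Agent.H671.H5

universe u

/-- `S` is isomorphic to `PSL(2,F)` for some finite field `F` with at least four elements. -/
def IsL2 (S : Type u) [Group S] : Prop :=
  ∃ (F : Type) (_ : Field F) (_ : Fintype F), 4 ≤ Fintype.card F ∧
    Nonempty (S ≃* Matrix.ProjectiveSpecialLinearGroup (Fin 2) F)

/-- Some irreducible character of `S` has degree divisible by `p`. -/
def IM (p : ℕ) (S : Type u) [Group S] : Prop := ∃ χ : Cfsg.IrrCharacter S, p ∣ Cfsg.charDegree (χ : S → ℂ)

/-- Some irreducible character of `S` has degree divisible by `p * q`, `p ≠ q` prime. -/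
def Adj (p q : ℕ) (S : Type u) [Group S] : Prop := (Cfsg.degreeGraph S).Adj p q

/-- The irreducible character `θ` extends to `Aut S` (along `s ↦ conj s`). -/
def ExtAut {S : Type u} [Group S] (θ : Cfsg.IrrCharacter S) : Prop :=
  ∃ ψ : Cfsg.IrrCharacter (MulAut S), ∀ s : S, (ψ : MulAut S → ℂ) (MulAut.conj s) = (θ : S → ℂ) s

/-- **Itô-Michler for simple groups.** -/
def FactIM : Prop := ∀ (S : Type u) [Group S] [Finite S] [IsSimpleGroup S], ¬ IsMulCommutative S →
  ∀ p : ℕ, p.Prime → p ∣ Nat.card S → IM p S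

/-- The degree graph of a simple group other than `PSL(2,F)` is connected. -/
def FactConn : Prop := ∀ (S : Type u) [Group S] [Finite S] [IsSimpleGroup S], ¬ IsMulCommutative S →
  ¬ IsL2 S → ((Cfsg.degreeGraph S).induce (Cfsg.degreePrimes S)).Connected

/-- Among three primes dividing degrees of a simple group other than `PSL(2,F)` two are adjacent. -/
def FactInd : Prop := ∀ (S : Type u) [Group S] [Finite S] [IsSimpleGroup S], ¬ IsMulCommutative S →
  ¬ IsL2 S → ∀ p ∈ Cfsg.degreePrimes S, ∀ q ∈ Cfsg.degreePrimes S, ∀ r ∈ Cfsg.degreePrimes S,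
    p ≠ q → q ≠ r → p ≠ r → Adj p q S ∨ Adj q r S ∨ Adj p r S

/-- The degree graph of a simple group other than `PSL(2,F)` contains a triangle. -/
def FactTri : Prop := ∀ (S : Type u) [Group S] [Finite S] [IsSimpleGroup S], ¬ IsMulCommutative S →
  ¬ IsL2 S → ∃ p q r : ℕ, Adj p q S ∧ Adj q r S ∧ Adj p r S

/-- Some irreducible character of degree greater than one extends to `Aut S`. -/
def FactExt : Prop := ∀ (S : Type u) [Group S] [Finite S] [IsSimpleGroup S], ¬ IsMulCommutative S →
  ∃ θ : Cfsg.IrrCharacter S, Cfsg.charDegree (θ : S → ℂ) ≠ 1 ∧ ExtAut θ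

/-- Two characters of degree greater than one and coprime degrees which extend to `Aut S`, or one whose
degree is a prime power. -/
def FactCop : Prop := ∀ (S : Type u) [Group S] [Finite S] [IsSimpleGroup S], ¬ IsMulCommutative S →
  (∃ α β : Cfsg.IrrCharacter S, Cfsg.charDegree (α : S → ℂ) ≠ 1 ∧ Cfsg.charDegree (β : S → ℂ) ≠ 1 ∧
    Nat.Coprime (Cfsg.charDegree (α : S → ℂ)) (Cfsg.charDegree (β : S → ℂ)) ∧ ExtAut α ∧ ExtAut β) ∨
  ∃ α : Cfsg.IrrCharacter S, IsPrimePow (Cfsg.charDegree (α : S → ℂ)) ∧ ExtAut α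

theorem mem_degreePrimes {S : Type u} [Group S] {p : ℕ} :
    p ∈ Cfsg.degreePrimes S ↔ p.Prime ∧ IM p S := by
  constructor
  · rintro ⟨hp, d, ⟨χ, rfl⟩, hd⟩
    exact ⟨hp, χ, hd⟩
  · rintro ⟨hp, χ, hd⟩
    exact ⟨hp, _, ⟨χ, rfl⟩, hd⟩

theorem adj_iff {S : Type u} [Group S] {p q : ℕ} :
    Adj p q S ↔ p ≠ q ∧ p.Prime ∧ q.Prime ∧ ∃ χ : Cfsg.IrrCharacter S, p * q ∣ Cfsg.charDegree (χ : S → ℂ) := by
  constructor
  · rintro ⟨h, hp, hq, d, ⟨χ, rfl⟩, hd⟩
    exact ⟨h, hp, hq, χ, hd⟩
  · rintro ⟨h, hp, hq, χ, hd⟩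
    exact ⟨h, hp, hq, _, ⟨χ, rfl⟩, hd⟩

end Cfsg.Agent.H671.H5
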