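import Cfsg.Agent.H671.Link
import Cfsg.Agent.S4774
import Cfsg.Agent.S4812
import Cfsg.Agent.ClassicalGeometry.PSL2Basic
import Cfsg.Agent.Prune
set_option linter.all false
prune_inst 0x7f00000000000000000000000000000000000000000000000000000000000000000000000000000000000000000000000000000000000000000000000000000000000000000000000000000000000000003fffffffffffffffffffffffffffbeffbdffffffff
open scoped Cfsg.Agent.FastGrp

/-!
# Components of the degree graph of a non-solvable group (hub H5, helper671)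

* `reach_of_simple` : adjacency in the degree graph of the simple factor;
* `L2Reps`: three primes representing the components of the degree graph of `PSL(2,F)`;
* `comp_le_three` : the degree graph of a finite group has at most three components, assuming the facts
  `FactIM`, `FactConn`, `FactExt` for simple groups (S4810).
-/

set_option autoImplicit false

namespace Cfsg.Agent.H671.Comp

open Cfsg Cfsg.Agent.H681.DegBasic Cfsg.Agent.H671.H5 Cfsg.Agent.H671.Link

universe u v

theorem card_comp_le {V : Type u} {Γ : SimpleGraph V} (a b c : V)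
    (h : ∀ v, Γ.Reachable v a ∨ Γ.Reachable v b ∨ Γ.Reachable v c) : Nat.card Γ.ConnectedComponent ≤ 3 := by
  let F : Fin 3 → Γ.ConnectedComponent := ![Γ.connectedComponentMk a, Γ.connectedComponentMk b, Γ.connectedComponentMk c]
  have hF : Function.Surjective F := by
    intro x
    obtain ⟨v, rfl⟩ := x.exists_rep
    rcases h v with h1 | h1 | h1
    · exact ⟨0, (SimpleGraph.ConnectedComponent.sound h1).symm⟩
    · exact ⟨1, (SimpleGraph.ConnectedComponent.sound h1).symm⟩
    · exact ⟨2, (SimpleGraph.ConnectedComponent.sound h1).symm⟩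
  have := Nat.card_le_card_of_surjective F hF
  simpa using this

theorem mem_dp_of_fact (hIM : FactIM.{v}) {S : Type v} [Group S] [Finite S] [IsSimpleGroup S] (hna : ¬ IsMulCommutative S)
    {p : ℕ} (hp : p.Prime) (h : p ∣ Nat.card S) : p ∈ degreePrimes S :=
  mem_degreePrimes.2 ⟨hp, hIM S hna p hp h⟩

theorem dvd_card_of_mem {G : Type u} [Group G] [Finite G] {p : ℕ} (h : p ∈ degreePrimes G) : p ∣ Nat.card G := by
  obtain ⟨-, d, hd, hpd⟩ := h
  exact hpd.trans (dvd_card hd)

section

variable {G : Type u} [Group G] [Finite G] (T : Link.Top G)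

theorem mem_of_S {p : ℕ} (h : p ∈ degreePrimes T.S) : p ∈ degreePrimes G := by
  obtain ⟨hp, d, hd, hpd⟩ := h
  obtain ⟨m, hm, hdm⟩ := T.ofS hd
  exact mem_dp hp hm (hpd.trans hdm)

theorem reach_adj {p q : ℕ} (hp : p ∈ degreePrimes T.S) (hq : q ∈ degreePrimes T.S) (h : (degreeGraph T.S).Adj p q) :
    (Gam G).Reachable ⟨p, mem_of_S T hp⟩ ⟨q, mem_of_S T hq⟩ := by
  obtain ⟨-, hp', hq', d, hd, hpq⟩ := h
  obtain ⟨m, hm, hdm⟩ := T.ofS hd
  exact reach hp' hq' hm (((Dvd.intro q rfl).trans hpq).trans hdm) (((Dvd.intro_left p rfl).trans hpq).trans hdm)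

theorem reach_of_simple {p q : ↥(degreePrimes T.S)} (h : (Gam T.S).Reachable p q) :
    (Gam G).Reachable ⟨p, mem_of_S T p.2⟩ ⟨q, mem_of_S T q.2⟩ := by
  obtain ⟨w⟩ := h
  induction w with
  | nil => exact SimpleGraph.Reachable.refl _
  | cons hadj _ ih => exact (reach_adj T (Subtype.property _) (Subtype.property _) hadj).trans ih

/-- Two simple factors: the primes of `|S|` are pairwise reachable. -/
theorem reach_of_two (hk : 2 ≤ T.k) (p q : ↥(degreePrimes T.S)) :
    (Gam G).Reachable ⟨p, mem_of_S T p.2⟩ ⟨q, mem_of_S T q.2⟩ := by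
  obtain ⟨hp, a, ha, hpa⟩ := p.2
  obtain ⟨hq, b, hb, hqb⟩ := q.2
  obtain ⟨m, hm, hdm⟩ := T.ofS_mul hk ha hb
  exact reach hp hq hm ((Dvd.dvd.mul_right hpa b).trans hdm) ((Dvd.dvd.mul_left hqb a).trans hdm)

end

/-- Reachability from adjacency or equality. -/
theorem reach_of {S : Type v} [Group S] {p q : ↥(degreePrimes S)} (h : (p : ℕ) ≠ q → (degreeGraph S).Adj p q) :
    (Gam S).Reachable p q := by
  by_cases hpq : p = q
  · rw [hpq]
  · exact SimpleGraph.Adj.reachable (h fun h' => hpq (Subtype.ext h'))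

/-- Three primes represent the components of the degree graph of `PSL(2,F)`. -/
theorem l2_reps {S : Type v} [Group S] [Finite S] [IsSimpleGroup S] (h : IsL2 S) (p0 : ↥(degreePrimes S)) :
    ∃ a b c : ↥(degreePrimes S), ∀ p : ↥(degreePrimes S),
      (Gam S).Reachable p a ∨ (Gam S).Reachable p b ∨ (Gam S).Reachable p c := by
  classical
  obtain ⟨F, iF, iF', h4, ⟨e⟩⟩ := h
  obtain ⟨t, ht⟩ := CharP.exists F
  have htp : t.Prime := (CharP.char_is_prime_or_zero F t).resolve_right (CharP.char_ne_zero_of_finite F t)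
  have htf : Fact t.Prime := ⟨htp⟩
  obtain ⟨n, -, hn⟩ := FiniteField.card F t
  set q := Fintype.card F with hq
  have hdvdq : ∀ {p : ℕ}, p.Prime → p ∣ q → p = t := by
    intro p hp hpq
    rw [hn] at hpq
    exact (Nat.prime_dvd_prime_iff_eq hp htp).1 (hp.dvd_of_dvd_pow hpq)
  have hsq : q ^ 2 - 1 = (q + 1) * (q - 1) := by
    have := Nat.sq_sub_sq q 1
    rwa [one_pow] at this
  by_cases ht2 : t = 2
  · subst ht2
    obtain ⟨hV, hA⟩ := S4812.result F q rfl h4 (S := S) (Or.inl ⟨e⟩)
    have hm : ∀ {x : ℕ}, x.Prime → x ∣ q * (q ^ 2 - 1) → x ∈ degreePrimes S := by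
      intro x hx h
      rw [hV]; exact ⟨hx, h⟩
    have h1 : (q - 1).minFac.Prime := Nat.minFac_prime (by omega)
    have h2 : (q + 1).minFac.Prime := Nat.minFac_prime (by omega)
    have h3 : 2 ∣ q := by rw [hn]; exact dvd_pow_self _ n.pos.ne'
    have e1 : (q - 1).minFac ∣ q - 1 := Nat.minFac_dvd _
    have e2 : (q + 1).minFac ∣ q + 1 := Nat.minFac_dvd _
    refine ⟨⟨2, hm Nat.prime_two (Dvd.dvd.mul_right h3 _)⟩,
      ⟨(q - 1).minFac, hm h1 (Dvd.dvd.mul_left (by rw [hsq]; exact Dvd.dvd.mul_left e1 _) _)⟩,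
      ⟨(q + 1).minFac, hm h2 (Dvd.dvd.mul_left (by rw [hsq]; exact Dvd.dvd.mul_right e2 _) _)⟩, fun p => ?_⟩
    have hV' : ∀ x : ℕ, x ∈ degreePrimes S → x.Prime ∧ x ∣ q * (q ^ 2 - 1) := fun x hx => by rwa [hV] at hx
    obtain ⟨hp, hpd⟩ := hV' p p.2
    rcases (Nat.Prime.dvd_mul hp).1 hpd with h | h
    · left
      apply reach_of
      intro hne
      exact absurd (hdvdq hp h) hne
    · rw [hsq, Nat.Prime.dvd_mul hp] at h
      rcases h with h | h
      · right; right
        apply reach_of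
        intro hne
        exact (hA _ _).2 ⟨hne, hp, h2, Or.inl ⟨h, e2⟩⟩
      · right; left
        apply reach_of
        intro hne
        exact (hA _ _).2 ⟨hne, hp, h1, Or.inr ⟨h, e1⟩⟩
  · by_cases h5 : 5 < q
    · obtain ⟨hV, hA⟩ := S4774.result F t ht2 q rfl h5 (S := S) (Or.inl ⟨e⟩)
      have hm : ∀ {x : ℕ}, x.Prime → x ∣ q * (q ^ 2 - 1) → x ∈ degreePrimes S := by
        intro x hx h
        rw [hV]; exact ⟨hx, h⟩
      have h3 : t ∣ q := by rw [hn]; exact dvd_pow_self _ n.pos.ne'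
      have hodd : Odd q := by
        rw [hn]
        exact (htp.odd_of_ne_two ht2).pow
      have h2 : 2 ∣ q ^ 2 - 1 := by
        rw [hsq]
        obtain ⟨m, hm⟩ := hodd
        exact Dvd.dvd.mul_right ⟨m + 1, by omega⟩ _
      refine ⟨⟨t, hm htp (Dvd.dvd.mul_right h3 _)⟩, ⟨2, hm Nat.prime_two (Dvd.dvd.mul_left h2 _)⟩,
        ⟨2, hm Nat.prime_two (Dvd.dvd.mul_left h2 _)⟩, fun p => ?_⟩
      have hV' : ∀ x : ℕ, x ∈ degreePrimes S → x.Prime ∧ x ∣ q * (q ^ 2 - 1) := fun x hx => by rwa [hV] at hx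
      obtain ⟨hp, hpd⟩ := hV' p p.2
      rcases (Nat.Prime.dvd_mul hp).1 hpd with h | h
      · left
        apply reach_of
        intro hne
        exact absurd (hdvdq hp h) hne
      · right; left
        apply reach_of
        intro hne
        exact (hA _ _).2 ⟨hne, hp, Nat.prime_two, h, h2, Or.inr (Or.inl rfl)⟩
    · -- `q = 5`
      have h50 : q = 5 := by
        have h6 : q ≠ 4 := by
          intro h
          have h7 : Odd q := by rw [hn]; exact (htp.odd_of_ne_two ht2).pow
          rw [h] at h7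
          exact absurd h7 (by decide)
        omega
      have hcard : Nat.card S ∣ 120 := by
        rw [Nat.card_congr e.toEquiv]
        have h6 : Nat.card (Matrix.SpecialLinearGroup (Fin 2) F) = 120 := by
          rw [ClassicalGeometry.PSL2Basic.card_SL2, ← hq, h50]; norm_num
        rw [← h6]
        exact Subgroup.card_quotient_dvd_card _
      have hp5 : ∀ p : ↥(degreePrimes S), (p : ℕ) = 2 ∨ (p : ℕ) = 3 ∨ (p : ℕ) = 5 := by
        intro p
        have h6 := (dvd_card_of_mem p.2).trans hcard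
        have h7 : (p : ℕ) ∈ Nat.primeFactors 120 := Nat.mem_primeFactors.2 ⟨p.2.1, h6, by norm_num⟩
        have h8 : Nat.primeFactors 120 = {2, 3, 5} := by decide +kernel
        rw [h8] at h7
        simpa using h7
      let f : ℕ → ↥(degreePrimes S) := fun x => if h : x ∈ degreePrimes S then ⟨x, h⟩ else p0
      have hf : ∀ p : ↥(degreePrimes S), f p = p := by
        intro p
        simp only [f, p.2, dif_pos]
      refine ⟨f 2, f 3, f 5, fun p => ?_⟩
      rcases hp5 p with h | h | h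
      · left; rw [← h, hf]
      · right; left; rw [← h, hf]
      · right; right; rw [← h, hf]

/-- **At most three components.** -/
theorem comp_le_three (hIM : FactIM.{0}) (hC : FactConn.{0}) (hE : FactExt.{0}) {G : Type u} [Group G] [Finite G] :
    Nat.card (Gam G).ConnectedComponent ≤ 3 := by
  classical
  by_cases hG : Group.IsSolvable G
  · exact (S4811.result (G := G)).trans (by norm_num)
  obtain ⟨T⟩ := Link.Top.exists hG
  -- representatives
  suffices h : ∃ a b c : ↥(degreePrimes G), ∀ p : ↥(degreePrimes T.S),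
      (Gam G).Reachable ⟨p, mem_of_S T p.2⟩ a ∨ (Gam G).Reachable ⟨p, mem_of_S T p.2⟩ b ∨
        (Gam G).Reachable ⟨p, mem_of_S T p.2⟩ c by
    obtain ⟨a, b, c, h⟩ := h
    refine card_comp_le a b c fun v => ?_
    obtain ⟨p, hp, n, hn, hpn⟩ := v
    obtain ⟨q, hq, hqS, hq', hr⟩ := T.link hE hp hn hpn
    have h1 := h ⟨q, mem_dp_of_fact hIM T.na hq hqS⟩
    rcases h1 with h1 | h1 | h1
    · exact Or.inl (hr.trans h1)
    · exact Or.inr (Or.inl (hr.trans h1))
    · exact Or.inr (Or.inr (hr.trans h1))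
  -- a vertex
  have h2 : ∃ p : ↥(degreePrimes T.S), True := by
    have h1 : Nat.card T.S ≠ 1 := by
      have := Finite.one_lt_card (α := T.S)
      omega
    obtain ⟨q, hq, hqS⟩ := Nat.exists_prime_and_dvd h1
    exact ⟨⟨q, mem_dp_of_fact hIM T.na hq hqS⟩, trivial⟩
  obtain ⟨p0, -⟩ := h2
  by_cases hk : 2 ≤ T.k
  · exact ⟨⟨p0, mem_of_S T p0.2⟩, ⟨p0, mem_of_S T p0.2⟩, ⟨p0, mem_of_S T p0.2⟩, fun p => Or.inl (reach_of_two T hk p p0)⟩
  by_cases hL : IsL2 T.S
  · obtain ⟨a, b, c, h⟩ := l2_reps hL p0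
    refine ⟨⟨a, mem_of_S T a.2⟩, ⟨b, mem_of_S T b.2⟩, ⟨c, mem_of_S T c.2⟩, fun p => ?_⟩
    exact (h p).imp (reach_of_simple T) (Or.imp (reach_of_simple T) (reach_of_simple T))
  · have h := (hC T.S T.na hL).preconnected
    exact ⟨⟨p0, mem_of_S T p0.2⟩, ⟨p0, mem_of_S T p0.2⟩, ⟨p0, mem_of_S T p0.2⟩,
      fun p => Or.inl (reach_of_simple T (h p p0))⟩

end Cfsg.Agent.H671.Comp
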